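import Cfsg.Agent.H194.OC.SpBase
import Cfsg.Agent.H477.HC.Frame
import Cfsg.Agent.H985.OC.Defs

/-!
# S4891, own characteristic, symplectic groups: the inner product with the permutation character on the
non-degenerate planes (helper194)

`piE F` : the permutation character on `ND F`;
`sum_piE` : `∑ g, hcf F c g * conj (piE F g) = |F.iso|` for `c` cuspidal irreducible of `GL_2(K)`, trivial on the scalars, of
degree `|K| - 1`, vanishing on the split regular semisimple elements.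
-/

set_option autoImplicit false
set_option linter.style.haveILetI false

open scoped ComplexConjugate
open Cfsg

namespace Cfsg.Agent.H194.OC

open Cfsg.Agent.OddOrderCharacters.Clifford Cfsg.Agent.Characters MulAction Module Cfsg.Agent.H53.HC
  Cfsg.Agent.H477.HC Cfsg.Agent.H328.Gow

universe u v w

variable {K : Type u} [Field K] {V : Type v} [AddCommGroup V] [Module K V]

section Zero

variable {G : Type w} [Group G] [Fintype G] (ρ : G →* (V ≃ₗ[K] V))

omit [Fintype G] in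
/-- a plane spanned by two vectors -/
theorem span_plane {W : Submodule K V} (hW : finrank K W = 2) {x y : V} (hx : x ∈ W) (hy : y ∈ W) (hx0 : x ≠ 0)
    (hxy : ∀ t : K, t • x ≠ y) {w : V} (hw : w ∈ W) : ∃ r s : K, w = r • x + s • y := by
  have hx0' : (⟨x, hx⟩ : W) ≠ 0 := fun h => hx0 (congrArg Subtype.val h)
  have hli : LinearIndependent K ![(⟨x, hx⟩ : W), ⟨y, hy⟩] := by
    rw [LinearIndependent.pair_iff' hx0']
    intro r hr
    exact hxy r (congrArg Subtype.val hr)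
  have : FiniteDimensional K W := FiniteDimensional.of_finrank_pos (by rw [hW]; exact two_pos)
  have h1 := hli.span_eq_top_of_card_eq_finrank' (by rw [Fintype.card_fin, hW])
  have h2 : (⟨w, hw⟩ : W) ∈ Submodule.span K (Set.range ![(⟨x, hx⟩ : W), ⟨y, hy⟩]) := by rw [h1]; trivial
  rw [Matrix.range_cons, Matrix.range_cons, Matrix.range_empty, Set.union_empty, Set.singleton_union,
    Submodule.mem_span_pair] at h2
  obtain ⟨r, s, h3⟩ := h2
  exact ⟨r, s, (congrArg Subtype.val h3).symm⟩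

/-- **cuspidality** -/
theorem sum_zero [Finite K] [FiniteDimensional K V] [Finite V] {W : Submodule K V} (hW : finrank K W = 2)
    (S : Subgroup G) (hS : S ≤ stabW ρ W) [Fintype S] {c : GL (Fin 2) K → ℂ} (hc : IsIrrCharacter _ c)
    (hcusp : IsCusp c) {x y : V} (hx : x ∈ W) (hy : y ∈ W) (hx0 : x ≠ 0) (hxy : ∀ t : K, t • x ≠ y)
    (h : ∀ t : K, ∃ g ∈ S, ρ g x = x ∧ ρ g y = y + t • x) : ∑ g : S, flagTerm ρ c (g : G) W = 0 := by
  classical
  have hcf := Core.isIrr_isClassFunction hc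
  let b : Basis (Fin 2) K W := finBasisOfFinrankEq K W hW
  have hx0' : (⟨x, hx⟩ : W) ≠ 0 := fun h => hx0 (congrArg Subtype.val h)
  have hGW : Finite (W ≃ₗ[K] W) := Finite.of_injective (fun e : W ≃ₗ[K] W => (e : W → W)) DFunLike.coe_injective
  let D : Submodule K W := Submodule.span K {⟨x, hx⟩}
  have hD0 : D ≠ ⊥ := by
    rw [Ne, Submodule.span_singleton_eq_bot]
    exact hx0'
  have hyD : (⟨y, hy⟩ : W) ∉ D := by
    intro h1
    obtain ⟨t, ht⟩ := Submodule.mem_span_singleton.1 h1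
    exact hxy t (congrArg Subtype.val ht)
  have hD1 : D ≠ ⊤ := fun h1 => hyD (by rw [h1]; trivial)
  let r : S →* (W ≃ₗ[K] W) := (resHom ρ W).comp (Subgroup.inclusion hS)
  let f : S →* GL (Fin 2) K := (glE b).toMonoidHom.comp r
  let U : Subgroup S := (radU D).comap r
  let _ : Fintype U := Fintype.ofFinite _
  let _ : Fintype (radU D) := Fintype.ofFinite _
  let g : U →* radU D :=
    { toFun := fun l => ⟨r l, l.2⟩
      map_one' := by
        apply Subtype.ext
        exact map_one _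
      map_mul' := fun l l' => by
        apply Subtype.ext
        exact map_mul r (l : S) (l' : S) }
  have hg : Function.Surjective g := by
    rintro ⟨a, ha, ha'⟩
    obtain ⟨t, ht⟩ := Submodule.mem_span_singleton.1 (ha ⟨y, hy⟩)
    have hax : a ⟨x, hx⟩ = ⟨x, hx⟩ := ha' _ (Submodule.mem_span_singleton_self _)
    have hay : (a ⟨y, hy⟩ : V) = y + t • x := by
      have h1 := congrArg Subtype.val ht
      change t • x = (a ⟨y, hy⟩ : V) - y at h1
      rw [h1]
      abel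
    obtain ⟨A, hAS, hAx, hAy⟩ := h t
    have hA : ∀ w : W, ρ A w = a w := by
      rintro ⟨w, hw⟩
      obtain ⟨r, s, hrs⟩ := span_plane hW hx hy hx0 hxy hw
      have e1 : (⟨w, hw⟩ : W) = r • ⟨x, hx⟩ + s • ⟨y, hy⟩ := Subtype.ext hrs
      rw [e1, map_add a, map_smul a, map_smul a, hax, Submodule.coe_add, Submodule.coe_smul, Submodule.coe_smul,
        map_add (ρ A), map_smul (ρ A), map_smul (ρ A), Submodule.coe_add, Submodule.coe_smul,
        Submodule.coe_smul, hay]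
      change r • ρ A x + s • ρ A y = _
      rw [hAx, hAy]
    have hres : r ⟨A, hAS⟩ = a := by
      ext1 w
      exact Subtype.ext (hA w)
    refine ⟨⟨⟨A, hAS⟩, ?_⟩, ?_⟩
    · change r ⟨A, hAS⟩ ∈ radU D
      rw [hres]
      exact ⟨ha, ha'⟩
    · apply Subtype.ext
      exact hres
  have h1 : classInner (c ∘ f) (1 : S → ℂ) = 0 := by
    refine classInner_eq_zero_of_comp U.subtype (Core.isCharacter_comp f (Core.isIrr_isCharacter hc))
      Core.isCharacter_one ?_
    rw [Core.classInner_def]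
    have h2 : ∑ l : U, ((c ∘ f) ∘ U.subtype) l * conj (((1 : S → ℂ) ∘ U.subtype) l) =
        ∑ l : U, (fun u : radU D => cl c (u : W ≃ₗ[K] W)) (g l) := by
      refine Finset.sum_congr rfl fun l _ => ?_
      change c (glE b (r l)) * conj 1 = cl c (r l)
      rw [map_one, mul_one, cl_eq hcf b]
    rw [h2, sum_comp_hom g hg (fun u : radU D => cl c (u : W ≃ₗ[K] W)), hcusp.sum_eq hcf b D hD0 hD1, mul_zero,
      mul_zero]
  rw [Core.classInner_def] at h1
  have h2 := (mul_eq_zero.1 h1).resolve_left (inv_ne_zero Core.card_ne_zero_complex)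
  rw [← h2]
  refine Finset.sum_congr rfl fun A _ => ?_
  change _ = c (glE b (r A)) * conj 1
  rw [map_one, mul_one, flagTerm_of ρ c (hS A.2), cl_eq hcf b]
  rfl

end Zero

variable {F : CForm K V}

/-- the good pairs -/
def Good (F : CForm K V) (W E : Submodule K V) : Prop := (∃ e ∈ W, e ∈ E ∧ e ≠ 0) ∧ ∃ w ∈ W, w ∈ F.perp E ∧ w ≠ 0

/-- the common stabiliser -/
def stWE (F : CForm K V) (W E : Submodule K V) : Subgroup F.iso := stabW F.iso.subtype W ⊓ stabW F.iso.subtype E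

theorem mem_stWE [FiniteDimensional K V] {W E : Submodule K V} {g : F.iso} (h1 : ∀ w ∈ W, (g : V ≃ₗ[K] V) w ∈ W)
    (h2 : ∀ w ∈ E, (g : V ≃ₗ[K] V) w ∈ E) : g ∈ stWE F W E :=
  ⟨map_eq_of_le F.iso.subtype h1, map_eq_of_le F.iso.subtype h2⟩

theorem exists_perp_pair [FiniteDimensional K V] {E : Submodule K V} (hE : E ∈ ND F) {w f : V}
    (hw : w ∈ F.perp E) (hf : f ∈ F.perp E) (hw0 : w ≠ 0) (hwf : ∀ t : K, t • w ≠ f) (t : K) :
    ∃ b ∈ F.perp E, F.B w b = 0 ∧ F.B f b = t := by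
  have hli : LinearIndependent K ![w, f] := by
    rw [LinearIndependent.pair_iff' hw0]
    exact hwf
  let B : Basis (Fin 2) K (Submodule.span K (Set.range ![w, f])) := Basis.span hli
  have hle : Submodule.span K (Set.range ![w, f]) ≤ F.perp E := by
    rw [Submodule.span_le]
    rintro _ ⟨i, rfl⟩
    fin_cases i
    · exact hw
    · exact hf
  obtain ⟨b, hb, h1⟩ := F.exists_pair (Submodule.span K (Set.range ![w, f])) (F.perp E) (t • B.coord 1) (fun a ha => by
    have h2 : (a : V) = 0 := by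
      refine F.nondeg a fun v => ?_
      obtain ⟨e, he, h3⟩ := exists_dec hE v
      have h4 : v = e + (v - e) := by abel
      rw [h4, F.B_add_right, hle a.2 e he, ha _ h3, add_zero]
    rw [show a = 0 from Subtype.ext h2, map_zero])
  have e0 : (B 0 : V) = w := by
    rw [Basis.span_apply]; rfl
  have e1 : (B 1 : V) = f := by
    rw [Basis.span_apply]; rfl
  refine ⟨b, hb, ?_, ?_⟩
  · have h2 := h1 (B 0)
    rw [e0] at h2
    rw [← h2, LinearMap.smul_apply, Basis.coord_apply, Basis.repr_self, Finsupp.single_eq_of_ne (by decide), smul_zero]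
  · have h2 := h1 (B 1)
    rw [e1] at h2
    rw [← h2, LinearMap.smul_apply, Basis.coord_apply, Basis.repr_self, Finsupp.single_eq_same, smul_eq_mul, mul_one]

/-- **a pair which is not good** -/
theorem sum_bad [Finite K] [FiniteDimensional K V] [Finite V] [Fintype F.iso] (hs : Symp F) {W E : Submodule K V}
    (hW : W ∈ F.Om 2) (hE : E ∈ ND F) (hbad : ¬ Good F W E) {c : GL (Fin 2) K → ℂ} (hc : IsIrrCharacter _ c)
    (hcusp : IsCusp c) [Fintype (stWE F W E)] :
    ∑ g : stWE F W E, flagTerm F.iso.subtype c (g : F.iso) W = 0 := by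
  classical
  have hperp : ∀ x ∈ W, ∀ y ∈ W, F.B x y = 0 := fun x hx y hy => hW.1.2 x hx y hy
  have hWf : FiniteDimensional K W := inferInstance
  by_cases h0 : ∃ w ∈ W, w ∈ F.perp E ∧ w ≠ 0
  · obtain ⟨w, hw, hwE, hw0⟩ := h0
    -- a second vector
    obtain ⟨y, hy, hwy⟩ : ∃ y ∈ W, ∀ t : K, t • w ≠ y := by
      by_contra h1
      push Not at h1
      have h2 : W ≤ Submodule.span K {w} := fun y hy => by
        obtain ⟨t, ht⟩ := h1 y hy
        exact Submodule.mem_span_singleton.2 ⟨t, ht⟩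
      have h3 := Submodule.finrank_mono h2
      rw [hW.2, finrank_span_singleton hw0] at h3
      omega
    obtain ⟨e, he, hf⟩ := exists_dec hE y
    have hwf : ∀ t : K, t • w ≠ y - e := by
      intro t ht
      apply hbad
      refine ⟨⟨e, ?_, he, ?_⟩, w, hw, hwE, hw0⟩
      · have h1 : e = y - t • w := by rw [ht]; abel
        rw [h1]
        exact W.sub_mem hy (W.smul_mem t hw)
      · rintro rfl
        rw [sub_zero] at ht
        exact hwy t ht
    refine sum_zero F.iso.subtype hW.2 (stWE F W E) inf_le_left hc hcusp hw hy hw0 hwy fun t => ?_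
    obtain ⟨b, hb, hb1, hb2⟩ := exists_perp_pair hE hwE hf hw0 hwf t
    obtain ⟨g, hg⟩ := hs.exists_rt hb1
    have hgw : (g : V ≃ₗ[K] V) w = w := by
      rw [hg, hb1, hs.alt, zero_smul, zero_smul, add_zero, add_zero]
    have heb : F.B e b = 0 := by
      rw [hs.neg, hb e he, neg_zero]
    have hyb : F.B y b = t := by
      have h4 : y = e + (y - e) := by abel
      rw [h4, F.B_add_left, heb, hb2, zero_add]
    have hgy : (g : V ≃ₗ[K] V) y = y + t • w := by
      rw [hg, hyb, hperp y hy w hw, zero_smul, add_zero]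
    refine ⟨g, mem_stWE (fun u hu => ?_) (fun u hu => ?_), hgw, hgy⟩
    · obtain ⟨r, s, rfl⟩ := span_plane hW.2 hw hy hw0 hwy hu
      rw [map_add, map_smul, map_smul, hgw, hgy]
      exact W.add_mem (W.smul_mem _ hw) (W.smul_mem _ (W.add_mem hy (W.smul_mem _ hw)))
    · rw [hg, hs.neg u b, hb u hu, hs.neg u w, hwE u hu, neg_zero, zero_smul, zero_smul, add_zero, add_zero]
      exact hu
  · push Not at h0
    obtain ⟨x, hx, hx0⟩ : ∃ x ∈ W, x ≠ 0 := by
      by_contra h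
      push Not at h
      have h1 : W = ⊥ := (Submodule.eq_bot_iff _).2 h
      have h2 := hW.2
      rw [h1, finrank_bot] at h2
      omega
    obtain ⟨y, hy, hxy⟩ : ∃ y ∈ W, ∀ t : K, t • x ≠ y := by
      by_contra h1
      push Not at h1
      have h2 : W ≤ Submodule.span K {x} := fun y hy => by
        obtain ⟨t, ht⟩ := h1 y hy
        exact Submodule.mem_span_singleton.2 ⟨t, ht⟩
      have h3 := Submodule.finrank_mono h2
      rw [hW.2, finrank_span_singleton hx0] at h3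
      omega
    obtain ⟨e, he, he2⟩ := exists_dec hE x
    obtain ⟨f, hf, hf2⟩ := exists_dec hE y
    set e2 := x - e with he2d
    set f2 := y - f with hf2d
    have hxe : x = e + e2 := by rw [he2d]; abel
    have hyf : y = f + f2 := by rw [hf2d]; abel
    have he0 : e ≠ 0 := by
      intro h1
      rw [h1, zero_add] at hxe
      exact hx0 (h0 x hx (by rw [hxe]; exact he2))
    have hef' : ∀ t : K, t • e ≠ f := by
      intro t ht
      have h1 : y - t • x ∈ W := W.sub_mem hy (W.smul_mem t hx)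
      have h2 : y - t • x = f2 - t • e2 := by
        rw [hxe, hyf, ← ht, smul_add]
        abel
      have h3 : y - t • x = 0 := h0 _ h1 (by
        rw [h2]
        exact (F.perp E).sub_mem hf2 ((F.perp E).smul_mem t he2))
      exact hxy t (sub_eq_zero.1 h3).symm
    have hBef : F.B e f ≠ 0 := by
      intro h1
      apply he0
      have h2 : e ∈ E ⊓ F.perp E := by
        refine ⟨he, fun u hu => ?_⟩
        obtain ⟨r, s, rfl⟩ := span_plane hE.1 he hf he0 hef' hu
        rw [F.B_add_right, hs.smul_right, hs.smul_right, hs.alt, h1]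
        ring
      rw [hE.2] at h2
      exact (Submodule.mem_bot K).1 h2
    have hBfe : F.B f e ≠ 0 := by
      rw [hs.neg]; exact neg_ne_zero.2 hBef
    have hee2 : F.B e e2 = 0 := by rw [hs.neg, he2 e he, neg_zero]
    refine sum_zero F.iso.subtype hW.2 (stWE F W E) inf_le_left hc hcusp hx hy hx0 hxy fun t => ?_
    obtain ⟨g, hg⟩ := hs.exists_tv hee2 (t / F.B f e)
    have hxe' : F.B x e = 0 := by rw [hxe, F.B_add_left, hs.alt, he2 e he, add_zero]
    have hxe2 : F.B x e2 = 0 := by rw [hxe, F.B_add_left, hs.alt, hee2, add_zero]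
    have hye : F.B y e = F.B f e := by rw [hyf, F.B_add_left, hf2 e he, add_zero]
    have hye2 : F.B y e2 = -F.B f e := by
      have h1 := hperp y hy x hx
      rw [hxe, F.B_add_right, hye] at h1
      linear_combination h1
    have hgx : (g : V ≃ₗ[K] V) x = x := by
      rw [hg, hxe', hxe2, mul_zero, zero_smul, zero_smul, add_zero, sub_zero]
    have hgy : (g : V ≃ₗ[K] V) y = y + t • x := by
      rw [hg, hye, hye2, mul_neg, div_mul_cancel₀ _ hBfe, neg_smul, sub_neg_eq_add, add_assoc, ← smul_add, ← hxe]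
    refine ⟨g, mem_stWE (fun u hu => ?_) (fun u hu => ?_), hgx, hgy⟩
    · obtain ⟨r, s, rfl⟩ := span_plane hW.2 hx hy hx0 hxy hu
      rw [map_add, map_smul, map_smul, hgx, hgy]
      exact W.add_mem (W.smul_mem _ hx) (W.smul_mem _ (W.add_mem hy (W.smul_mem _ hx)))
    · rw [hg, hs.neg u e2, he2 u hu, neg_zero, mul_zero, zero_smul, sub_zero]
      exact E.add_mem hu (E.smul_mem _ he)

/-- a frame adapted to a good pair -/
structure Frm4 (F : CForm K V) (W E : Submodule K V) (e w e' w' : V) : Prop where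
  eW : e ∈ W
  eE : e ∈ E
  wW : w ∈ W
  wE : w ∈ F.perp E
  e'E : e' ∈ E
  w'E : w' ∈ F.perp E
  ee' : F.B e e' = 1
  ww' : F.B w w' = 1

theorem exists_frm [FiniteDimensional K V] (hs : Symp F) {W E : Submodule K V} (hE : E ∈ ND F) (h : Good F W E) :
    ∃ e w e' w', Frm4 F W E e w e' w' := by
  obtain ⟨⟨e, heW, heE, he0⟩, w, hwW, hwE, hw0⟩ := h
  obtain ⟨u, hu, heu⟩ : ∃ u ∈ E, F.B e u ≠ 0 := by
    by_contra h1
    push Not at h1
    have h2 : e ∈ E ⊓ F.perp E := ⟨heE, h1⟩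
    rw [hE.2] at h2
    exact he0 ((Submodule.mem_bot K).1 h2)
  obtain ⟨v, hwv⟩ : ∃ v, F.B w v ≠ 0 := by
    by_contra h1
    push Not at h1
    exact hw0 (F.nondeg w h1)
  obtain ⟨x, hx, hvx⟩ := exists_dec hE v
  have hwvx : F.B w (v - x) = F.B w v := by
    rw [F.B_sub_right, hwE x hx, sub_zero]
  exact ⟨e, w, (F.B e u)⁻¹ • u, (F.B w v)⁻¹ • (v - x), heW, heE, hwW, hwE, E.smul_mem _ hu, (F.perp E).smul_mem _ hvx,
    by rw [hs.smul_right, inv_mul_cancel₀ heu], by rw [hs.smul_right, hwvx, inv_mul_cancel₀ hwv]⟩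

section Frm

variable {W E : Submodule K V} {e w e' w' : V} (h : Frm4 F W E e w e' w')

include h

theorem Frm4.ew : F.B e w = 0 := F.B_eq_zero (h.wE e h.eE)
theorem Frm4.we' : F.B w e' = 0 := h.wE e' h.e'E
theorem Frm4.ew' : F.B e w' = 0 := F.B_eq_zero (h.w'E e h.eE)
theorem Frm4.e'w' : F.B e' w' = 0 := F.B_eq_zero (h.w'E e' h.e'E)

theorem Frm4.e0 : e ≠ 0 := fun h0 => by
  have := h.ee'
  rw [h0, F.B_zero_left] at this
  exact zero_ne_one this

theorem Frm4.w0 : w ≠ 0 := fun h0 => by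
  have := h.ww'
  rw [h0, F.B_zero_left] at this
  exact zero_ne_one this

theorem Frm4.ind (t : K) : t • e ≠ w := fun ht => by
  have := h.ww'
  rw [← ht, F.B_smul_left, h.ew', mul_zero] at this
  exact zero_ne_one this

theorem Frm4.ind' (hs : Symp F) (t : K) : t • e ≠ e' := fun ht => by
  have := h.ee'
  rw [← ht, hs.smul_right, hs.alt, mul_zero] at this
  exact zero_ne_one this

/-- `E = ⟨e, e'⟩` -/
theorem Frm4.decE (hs : Symp F) (hE : E ∈ ND F) {u : V} (hu : u ∈ E) :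
    u = F.B u e' • e - F.B u e • e' := by
  obtain ⟨r, s, rfl⟩ := span_plane hE.1 h.eE h.e'E h.e0 (h.ind' hs) hu
  have h1 : F.B e' e = -1 := by rw [hs.neg, h.ee']
  simp only [F.B_add_left, F.B_smul_left, hs.alt, h.ee', h1]
  module

/-- `W = ⟨e, w⟩` -/
theorem Frm4.decW (hW : W ∈ F.Om 2) {u : V} (hu : u ∈ W) :
    u = F.B u e' • e + F.B u w' • w := by
  obtain ⟨r, s, rfl⟩ := span_plane hW.2 h.eW h.wW h.e0 h.ind hu
  simp only [F.B_add_left, F.B_smul_left, h.ee', h.ww', h.ew', h.we']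
  module

end Frm

/-- the basis `e`, `w` of `W` -/
theorem exists_basis {W : Submodule K V} (hW : finrank K W = 2) {x y : V} (hx : x ∈ W) (hy : y ∈ W) (hx0 : x ≠ 0)
    (hxy : ∀ t : K, t • x ≠ y) : ∃ b : Basis (Fin 2) K W, (b 0 : V) = x ∧ (b 1 : V) = y := by
  have hx0' : (⟨x, hx⟩ : W) ≠ 0 := fun h => hx0 (congrArg Subtype.val h)
  have hli : LinearIndependent K ![(⟨x, hx⟩ : W), ⟨y, hy⟩] := by
    rw [LinearIndependent.pair_iff' hx0']
    intro r hr
    exact hxy r (congrArg Subtype.val hr)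
  refine ⟨basisOfLinearIndependentOfCardEqFinrank hli (by rw [Fintype.card_fin, hW]), ?_, ?_⟩
  · rw [coe_basisOfLinearIndependentOfCardEqFinrank]
    rfl
  · rw [coe_basisOfLinearIndependentOfCardEqFinrank]
    rfl

/-- **transitivity on the good pairs** -/
theorem exists_good_move [FiniteDimensional K V] (hs : Symp F) {W E W1 E1 : Submodule K V} (hW : W ∈ F.Om 2)
    (hE : E ∈ ND F) (hg : Good F W E) (hW1 : W1 ∈ F.Om 2) (hE1 : E1 ∈ ND F) (hg1 : Good F W1 E1) :
    ∃ g : F.iso, W.map (F.iso.subtype g : V →ₗ[K] V) = W1 ∧ E.map (F.iso.subtype g : V →ₗ[K] V) = E1 := by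
  obtain ⟨e, w, e', w', h⟩ := exists_frm hs hE hg
  obtain ⟨e1, w1, e1', w1', h1⟩ := exists_frm hs hE1 hg1
  -- the opposite planes
  have key : ∀ {W E : Submodule K V} {e w e' w' : V}, W ∈ F.Om 2 → Frm4 F W E e w e' w' →
      Submodule.span K (Set.range ![e', w']) ∈ F.Om 2 ∧ W ⊓ F.perp (Submodule.span K (Set.range ![e', w'])) = ⊥ := by
    intro W E e w e' w' hW h
    refine ⟨F.frame_mem_Om (f := ![-e, -w]) ?_ ?_ ?_, ?_⟩
    · intro i j
      fin_cases i <;> fin_cases j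
      · exact hs.alt _
      · exact h.e'w'
      · exact F.B_eq_zero h.e'w'
      · exact hs.alt _
    · intro i j
      fin_cases i <;> fin_cases j
      · change F.B e' (-e) = 1
        rw [F.B_neg_right, hs.neg, h.ee', neg_neg]
      · change F.B e' (-w) = 0
        rw [F.B_neg_right, hs.neg, h.we', neg_zero, neg_zero]
      · change F.B w' (-e) = 0
        rw [F.B_neg_right, hs.neg, h.ew', neg_zero, neg_zero]
      · change F.B w' (-w) = 1
        rw [F.B_neg_right, hs.neg, h.ww', neg_neg]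
    · intro i
      exact hs.quad _
    · rw [Submodule.eq_bot_iff]
      rintro u ⟨hu, hu'⟩
      have h2 : F.B u e' = 0 := hu' e' (Submodule.subset_span ⟨0, rfl⟩)
      have h3 : F.B u w' = 0 := hu' w' (Submodule.subset_span ⟨1, rfl⟩)
      rw [h.decW hW hu, h2, h3, zero_smul, zero_smul, add_zero]
  obtain ⟨hW', hop⟩ := key hW h
  obtain ⟨hW1', hop1⟩ := key hW1 h1
  obtain ⟨g0, hg0⟩ := F.trans_Om hW hW1
  have m0 : ∀ u ∈ W, (g0 : V ≃ₗ[K] V) u ∈ W1 := fun u hu => by
    rw [← hg0]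
    exact ⟨u, hu, rfl⟩
  obtain ⟨b0, hb00, hb01⟩ := exists_basis hW1.2 (m0 e h.eW) (m0 w h.wW)
    (fun h0 => h.e0 ((LinearEquiv.map_eq_zero_iff _).1 h0)) (fun t ht => h.ind t ((g0 : V ≃ₗ[K] V).injective (by
      rw [map_smul]; exact ht)))
  obtain ⟨b1, hb10, hb11⟩ := exists_basis hW1.2 h1.eW h1.wW h1.e0 h1.ind
  obtain ⟨k, hk⟩ := F.exists_levi' hW1.1 (b0.equiv b1 (Equiv.refl _))
  have hk0 : (k : V ≃ₗ[K] V) ((g0 : V ≃ₗ[K] V) e) = e1 := by
    rw [← hb00, hk, Basis.equiv_apply, Equiv.refl_apply, hb10]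
  have hk1 : (k : V ≃ₗ[K] V) ((g0 : V ≃ₗ[K] V) w) = w1 := by
    rw [← hb01, hk, Basis.equiv_apply, Equiv.refl_apply, hb11]
  obtain ⟨l0, hl0⟩ : ∃ l0 : F.iso, l0 = k * g0 := ⟨_, rfl⟩
  have hle : (l0 : V ≃ₗ[K] V) e = e1 := by rw [hl0]; exact hk0
  have hlw : (l0 : V ≃ₗ[K] V) w = w1 := by rw [hl0]; exact hk1
  have hlW' : (Submodule.span K (Set.range ![e', w'])).map (F.iso.subtype l0 : V →ₗ[K] V) ∈ F.Om 2 := F.Om_map l0 _ hW'
  have hop2 : W1 ⊓ F.perp ((Submodule.span K (Set.range ![e', w'])).map (F.iso.subtype l0 : V →ₗ[K] V)) = ⊥ := by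
    rw [Submodule.eq_bot_iff]
    rintro u ⟨hu, hu'⟩
    obtain ⟨r, s, rfl⟩ := span_plane hW1.2 h1.eW h1.wW h1.e0 h1.ind hu
    have h2 : F.B (r • e1 + s • w1) ((l0 : V ≃ₗ[K] V) e') = 0 :=
      hu' _ ⟨e', Submodule.subset_span ⟨0, rfl⟩, rfl⟩
    have h3 : F.B (r • e1 + s • w1) ((l0 : V ≃ₗ[K] V) w') = 0 :=
      hu' _ ⟨w', Submodule.subset_span ⟨1, rfl⟩, rfl⟩
    rw [← hle, ← hlw, F.B_add_left, F.B_smul_left, F.B_smul_left, F.iso_B, F.iso_B, h.ee', h.we', mul_zero, add_zero,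
      mul_one] at h2
    rw [← hle, ← hlw, F.B_add_left, F.B_smul_left, F.B_smul_left, F.iso_B, F.iso_B, h.ew', h.ww', mul_zero, zero_add,
      mul_one] at h3
    rw [h2, h3, zero_smul, zero_smul, add_zero]
  obtain ⟨l, hl, hlm⟩ := exists_opp_move F hW1 hlW' hW1' hop2 hop1
  have he' : (l : V ≃ₗ[K] V) ((l0 : V ≃ₗ[K] V) e') = e1' := by
    have h2 : (l : V ≃ₗ[K] V) ((l0 : V ≃ₗ[K] V) e') ∈ Submodule.span K (Set.range ![e1', w1']) := by
      rw [← hlm]
      exact ⟨_, ⟨e', Submodule.subset_span ⟨0, rfl⟩, rfl⟩, rfl⟩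
    rw [Matrix.range_cons, Matrix.range_cons, Matrix.range_empty, Set.union_empty, Set.singleton_union,
      Submodule.mem_span_pair] at h2
    obtain ⟨r, s, h3⟩ := h2
    have h4 : F.B e1 ((l : V ≃ₗ[K] V) ((l0 : V ≃ₗ[K] V) e')) = 1 := by
      have h5 := F.iso_B l e1 ((l0 : V ≃ₗ[K] V) e')
      rw [hl e1 h1.eW] at h5
      rw [h5, ← hle, F.iso_B, h.ee']
    have h6 : F.B w1 ((l : V ≃ₗ[K] V) ((l0 : V ≃ₗ[K] V) e')) = 0 := by
      have h5 := F.iso_B l w1 ((l0 : V ≃ₗ[K] V) e')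
      rw [hl w1 h1.wW] at h5
      rw [h5, ← hlw, F.iso_B, h.we']
    rw [← h3, F.B_add_right, hs.smul_right, hs.smul_right, h1.ee', h1.ew', mul_zero, add_zero, mul_one] at h4
    rw [← h3, F.B_add_right, hs.smul_right, hs.smul_right, h1.we', h1.ww', mul_zero, zero_add, mul_one] at h6
    rw [← h3, h4, h6, one_smul, zero_smul, add_zero]
  refine ⟨l * l0, ?_, ?_⟩
  · apply Submodule.eq_of_le_of_finrank_eq
    · rintro _ ⟨u, hu, rfl⟩
      obtain ⟨r, s, rfl⟩ := span_plane hW.2 h.eW h.wW h.e0 h.ind hu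
      change (l : V ≃ₗ[K] V) ((l0 : V ≃ₗ[K] V) (r • e + s • w)) ∈ W1
      rw [map_add, map_smul, map_smul, hle, hlw, map_add, map_smul, map_smul, hl e1 h1.eW, hl w1 h1.wW]
      exact W1.add_mem (W1.smul_mem _ h1.eW) (W1.smul_mem _ h1.wW)
    · exact (LinearEquiv.finrank_map_eq (F.iso.subtype (l * l0)) W).trans (hW.2.trans hW1.2.symm)
  · apply Submodule.eq_of_le_of_finrank_eq
    · rintro _ ⟨u, hu, rfl⟩
      obtain ⟨r, s, rfl⟩ := span_plane hE.1 h.eE h.e'E h.e0 (h.ind' hs) hu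
      change (l : V ≃ₗ[K] V) ((l0 : V ≃ₗ[K] V) (r • e + s • e')) ∈ E1
      rw [map_add, map_smul, map_smul, hle, map_add, map_smul, map_smul, hl e1 h1.eW, he']
      exact E1.add_mem (E1.smul_mem _ h1.eE) (E1.smul_mem _ h1.e'E)
    · exact (LinearEquiv.finrank_map_eq (F.iso.subtype (l * l0)) E).trans (hE.1.trans hE1.1.symm)

/-- the eigenvalue homomorphism -/
theorem exists_eig {S : Subgroup F.iso} {x : V} (hx0 : x ≠ 0) (hx : ∀ g ∈ S, ∃ a : K, a • x = (g : V ≃ₗ[K] V) x) :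
    ∃ α : S →* K, ∀ g : S, α g • x = ((g : F.iso) : V ≃ₗ[K] V) x := by
  choose α hα using fun g : S => hx g.1 g.2
  have hinj : ∀ a b : K, a • x = b • x → a = b := fun a b h => smul_left_injective K hx0 h
  refine ⟨{ toFun := α, map_one' := ?_, map_mul' := fun g h => ?_ }, hα⟩
  · apply hinj
    rw [hα, one_smul]
    rfl
  · apply hinj
    rw [hα]
    change ((g : F.iso) : V ≃ₗ[K] V) (((h : F.iso) : V ≃ₗ[K] V) x) = _
    rw [← hα h, map_smul, ← hα g, smul_smul, mul_comm]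

/-- **a good pair** -/
theorem sum_good [Finite K] [FiniteDimensional K V] [Finite V] (hs : Symp F) {W E : Submodule K V}
    (hW : W ∈ F.Om 2) (hE : E ∈ ND F) (hg : Good F W E) {c : GL (Fin 2) K → ℂ} (hc : IsClassFunction _ c)
    (hscal : ∀ z : Kˣ, c (Matrix.GeneralLinearGroup.scalar (Fin 2) z) = c 1) (h1 : c 1 = (Nat.card K : ℂ) - 1)
    (htor : ∀ A : GL (Fin 2) K, (A : Matrix (Fin 2) (Fin 2) K) 0 1 = 0 → (A : Matrix (Fin 2) (Fin 2) K) 1 0 = 0 →
      (A : Matrix (Fin 2) (Fin 2) K) 0 0 ≠ (A : Matrix (Fin 2) (Fin 2) K) 1 1 → c A = 0) [Fintype (stWE F W E)] :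
    ∑ g : stWE F W E, flagTerm F.iso.subtype c (g : F.iso) W = (Nat.card (stWE F W E) : ℂ) := by
  classical
  obtain ⟨e, w, e', w', h⟩ := exists_frm hs hE hg
  obtain ⟨b, hb0, hb1⟩ := exists_basis hW.2 h.eW h.wW h.e0 h.ind
  have hEE : ∀ u, u ∈ E → u ∈ F.perp E → u = 0 := fun u hu hu' => by
    have h2 : u ∈ E ⊓ F.perp E := ⟨hu, hu'⟩
    rw [hE.2] at h2
    exact (Submodule.mem_bot K).1 h2
  have mW : ∀ g ∈ stWE F W E, ∀ u ∈ W, (g : V ≃ₗ[K] V) u ∈ W := fun g hg u hu => by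
    have h2 : (g : V ≃ₗ[K] V) u ∈ W.map (F.iso.subtype g : V →ₗ[K] V) := ⟨u, hu, rfl⟩
    rwa [hg.1] at h2
  have mE : ∀ g ∈ stWE F W E, ∀ u ∈ E, (g : V ≃ₗ[K] V) u ∈ E := fun g hg u hu => by
    have h2 : (g : V ≃ₗ[K] V) u ∈ E.map (F.iso.subtype g : V →ₗ[K] V) := ⟨u, hu, rfl⟩
    rwa [hg.2] at h2
  have mP : ∀ g ∈ stWE F W E, ∀ u ∈ F.perp E, (g : V ≃ₗ[K] V) u ∈ F.perp E := fun g hg u hu v hv => by
    have h2 : v ∈ E.map (F.iso.subtype g : V →ₗ[K] V) := by rw [hg.2]; exact hv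
    obtain ⟨v', hv', rfl⟩ := h2
    exact (F.iso_B g u v').trans (hu v' hv')
  obtain ⟨α, hα⟩ := exists_eig (F := F) (S := stWE F W E) h.e0 (fun g hg => by
    have h2 := h.decW hW (mW g hg e h.eW)
    have h3 : F.B ((g : V ≃ₗ[K] V) e) w' • w = (g : V ≃ₗ[K] V) e - F.B ((g : V ≃ₗ[K] V) e) e' • e :=
      eq_sub_of_add_eq' h2.symm
    have h4 : F.B ((g : V ≃ₗ[K] V) e) w' • w = 0 := hEE _ (by
      rw [h3]
      exact E.sub_mem (mE g hg e h.eE) (E.smul_mem _ h.eE)) ((F.perp E).smul_mem _ h.wE)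
    refine ⟨F.B ((g : V ≃ₗ[K] V) e) e', ?_⟩
    rw [h4] at h3
    exact (sub_eq_zero.1 h3.symm).symm)
  obtain ⟨β, hβ⟩ := exists_eig (F := F) (S := stWE F W E) h.w0 (fun g hg => by
    have h2 := h.decW hW (mW g hg w h.wW)
    have h3 : F.B ((g : V ≃ₗ[K] V) w) e' • e = (g : V ≃ₗ[K] V) w - F.B ((g : V ≃ₗ[K] V) w) w' • w :=
      eq_sub_of_add_eq h2.symm
    have h4 : F.B ((g : V ≃ₗ[K] V) w) e' • e = 0 := hEE _ (E.smul_mem _ h.eE) (by
      rw [h3]
      exact (F.perp E).sub_mem (mP g hg w h.wE) ((F.perp E).smul_mem _ h.wE))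
    refine ⟨F.B ((g : V ≃ₗ[K] V) w) w', ?_⟩
    rw [h4] at h3
    exact (sub_eq_zero.1 h3.symm).symm)
  let γ : stWE F W E →* Kˣ × Kˣ := α.toHomUnits.prod β.toHomUnits
  have hγ : Function.Surjective γ := by
    rintro ⟨x, y⟩
    obtain ⟨g1, hg1⟩ := hs.exists_hp h.ee' x.ne_zero
    obtain ⟨g2, hg2⟩ := hs.exists_hp h.ww' y.ne_zero
    have a1 : (g1 : V ≃ₗ[K] V) e = (x : K) • e := by
      rw [hg1, h.ee', hs.alt]
      module
    have a2 : (g1 : V ≃ₗ[K] V) w = w := by
      rw [hg1, h.we', hs.neg w e, h.ew]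
      module
    have a3 : (g2 : V ≃ₗ[K] V) w = (y : K) • w := by
      rw [hg2, h.ww', hs.alt]
      module
    have a4 : (g2 : V ≃ₗ[K] V) e = e := by
      rw [hg2, h.ew, h.ew']
      module
    have a5 : ∀ u ∈ E, (g1 : V ≃ₗ[K] V) u ∈ E := fun u hu => by
      rw [hg1]
      exact E.sub_mem (E.add_mem hu (E.smul_mem _ h.eE)) (E.smul_mem _ h.e'E)
    have a6 : ∀ u ∈ E, (g2 : V ≃ₗ[K] V) u ∈ E := fun u hu => by
      rw [hg2, hs.neg u w', h.w'E u hu, hs.neg u w, h.wE u hu]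
      simpa using hu
    have hm : g1 * g2 ∈ stWE F W E := by
      refine mem_stWE (fun u hu => ?_) (fun u hu => ?_)
      · change (g1 : V ≃ₗ[K] V) ((g2 : V ≃ₗ[K] V) u) ∈ W
        obtain ⟨r, s, rfl⟩ := span_plane hW.2 h.eW h.wW h.e0 h.ind hu
        rw [map_add, map_smul, map_smul, a3, a4, map_add, map_smul, map_smul, map_smul, a1, a2]
        exact W.add_mem (W.smul_mem _ (W.smul_mem _ h.eW)) (W.smul_mem _ (W.smul_mem _ h.wW))
      · exact a5 _ (a6 u hu)
    refine ⟨⟨g1 * g2, hm⟩, ?_⟩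
    apply Prod.ext
    · apply Units.ext
      change α _ = (x : K)
      apply smul_left_injective K h.e0
      change α _ • e = (x : K) • e
      rw [hα]
      change (g1 : V ≃ₗ[K] V) ((g2 : V ≃ₗ[K] V) e) = _
      rw [a4, a1]
    · apply Units.ext
      change β _ = (y : K)
      apply smul_left_injective K h.w0
      change β _ • w = (y : K) • w
      rw [hβ]
      change (g1 : V ≃ₗ[K] V) ((g2 : V ≃ₗ[K] V) w) = _
      rw [a3, map_smul, a2]
  have hval : ∀ g : stWE F W E, flagTerm F.iso.subtype c (g : F.iso) W =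
      (fun x : Kˣ × Kˣ => if x.1 = x.2 then c 1 else 0) (γ g) := by
    intro g
    rw [flagTerm_of F.iso.subtype c g.2.1, cl_eq hc b]
    have r0 : (res (F.iso.subtype g) W g.2.1 : W →ₗ[K] W) (b 0) = α g • b 0 := by
      apply Subtype.ext
      change ((g : F.iso) : V ≃ₗ[K] V) (b 0 : V) = α g • (b 0 : V)
      rw [hb0, hα]
    have r1 : (res (F.iso.subtype g) W g.2.1 : W →ₗ[K] W) (b 1) = β g • b 1 := by
      apply Subtype.ext
      change ((g : F.iso) : V ≃ₗ[K] V) (b 1 : V) = β g • (b 1 : V)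
      rw [hb1, hβ]
    have m00 : ((glE b (res (F.iso.subtype g) W g.2.1) : GL (Fin 2) K) : Matrix (Fin 2) (Fin 2) K) 0 0 = α g := by
      rw [coe_glE, LinearMap.toMatrix_apply, r0]
      simp
    have m10 : ((glE b (res (F.iso.subtype g) W g.2.1) : GL (Fin 2) K) : Matrix (Fin 2) (Fin 2) K) 1 0 = 0 := by
      rw [coe_glE, LinearMap.toMatrix_apply, r0]
      simp
    have m01 : ((glE b (res (F.iso.subtype g) W g.2.1) : GL (Fin 2) K) : Matrix (Fin 2) (Fin 2) K) 0 1 = 0 := by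
      rw [coe_glE, LinearMap.toMatrix_apply, r1]
      simp
    have m11 : ((glE b (res (F.iso.subtype g) W g.2.1) : GL (Fin 2) K) : Matrix (Fin 2) (Fin 2) K) 1 1 = β g := by
      rw [coe_glE, LinearMap.toMatrix_apply, r1]
      simp
    change _ = if α.toHomUnits g = β.toHomUnits g then c 1 else 0
    split_ifs with hab
    · rw [← hscal (α.toHomUnits g)]
      congr 1
      have hab' : α g = β g := congrArg Units.val hab
      ext i j
      change _ = (Matrix.scalar (Fin 2) (α g)) i j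
      rw [Matrix.scalar_apply]
      fin_cases i <;> fin_cases j
      · exact m00.trans (Matrix.diagonal_apply_eq (fun _ => α g) _).symm
      · exact m01.trans (Matrix.diagonal_apply_ne _ (by decide)).symm
      · exact m10.trans (Matrix.diagonal_apply_ne _ (by decide)).symm
      · exact m11.trans (hab'.symm.trans (Matrix.diagonal_apply_eq (fun _ => α g) _).symm)
    · refine htor _ m01 m10 ?_
      rw [m00, m11]
      exact fun h2 => hab (Units.ext h2)
  rw [Finset.sum_congr rfl fun g _ => hval g]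
  let _ : Fintype Kˣ := Fintype.ofFinite _
  rw [sum_comp_hom γ hγ (fun x : Kˣ × Kˣ => if x.1 = x.2 then c 1 else 0)]
  have h2 : ∑ x : Kˣ × Kˣ, (if x.1 = x.2 then c 1 else 0) = (Nat.card (Kˣ × Kˣ) : ℂ) := by
    rw [Fintype.sum_prod_type]
    have h3 : ∀ x : Kˣ, ∑ y : Kˣ, (if x = y then c 1 else 0) = (Nat.card Kˣ : ℂ) := by
      intro x
      rw [Finset.sum_ite_eq, if_pos (Finset.mem_univ _), h1, Nat.card_units,
        Nat.cast_sub (Nat.card_pos (α := K)), Nat.cast_one]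
    rw [Finset.sum_congr rfl fun x _ => h3 x, Finset.sum_const, Finset.card_univ, nsmul_eq_mul,
      ← Nat.card_eq_fintype_card, Nat.card_prod, Nat.cast_mul]
  rw [h2, ← Nat.cast_mul]
  congr 1
  have h3 : Nat.card (Kˣ × Kˣ) = Nat.card (stWE F W E ⧸ γ.ker) :=
    (Nat.card_congr (QuotientGroup.quotientKerEquivOfSurjective _ hγ).toEquiv).symm
  rw [h3, mul_comm, ← Subgroup.card_eq_card_quotient_mul_card_subgroup]

/-- there is a good pair -/
theorem exists_good [FiniteDimensional K V] (hs : Symp F) {W₀ : Submodule K V} (hW₀ : W₀ ∈ F.Om 2) :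
    ∃ E ∈ ND F, Good F W₀ E := by
  obtain ⟨W', hW', h0⟩ := F.exists_opp hW₀
  obtain ⟨b, b', hb⟩ := CForm.exists_dual_basis hW₀.2 hW'.2 h0
  have h00 : F.B (b 0) (b' 0) = 1 := by rw [hb, if_pos rfl]
  have h10 : F.B (b 1) (b' 0) = 0 := by rw [hb, if_neg (by decide)]
  have hbb : F.B (b 1) (b 0) = 0 := hW₀.1.2 _ (b 1).2 _ (b 0).2
  have hne : ∀ i, (b i : V) ≠ 0 := fun i h => b.ne_zero i (Subtype.ext h)
  have hind : ∀ t : K, t • (b 0 : V) ≠ b' 0 := fun t ht => by
    rw [← ht, hs.smul_right, hs.alt, mul_zero] at h00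
    exact zero_ne_one h00
  have hli : LinearIndependent K ![(b 0 : V), (b' 0 : V)] := by
    rw [LinearIndependent.pair_iff' (hne 0)]
    exact hind
  have hmem : ∀ u, u ∈ Submodule.span K (Set.range ![(b 0 : V), (b' 0 : V)]) ↔ ∃ r s : K, r • (b 0 : V) + s • (b' 0 : V) = u := by
    intro u
    rw [Matrix.range_cons, Matrix.range_cons, Matrix.range_empty, Set.union_empty, Set.singleton_union,
      Submodule.mem_span_pair]
  refine ⟨Submodule.span K (Set.range ![(b 0 : V), (b' 0 : V)]), ⟨?_, ?_⟩, ⟨b 0, (b 0).2, ?_, hne 0⟩, b 1, (b 1).2, ?_, hne 1⟩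
  · rw [finrank_span_eq_card hli, Fintype.card_fin]
  · rw [Submodule.eq_bot_iff]
    rintro u ⟨hu, hu'⟩
    obtain ⟨r, s, rfl⟩ := (hmem u).1 hu
    have h2 := hu' (b' 0) ((hmem _).2 ⟨0, 1, by rw [zero_smul, one_smul, zero_add]⟩)
    have h3 := hu' (b 0) ((hmem _).2 ⟨1, 0, by rw [zero_smul, one_smul, add_zero]⟩)
    rw [F.B_add_left, F.B_smul_left, F.B_smul_left, hs.alt, h00, mul_one, mul_zero, add_zero] at h2
    rw [F.B_add_left, F.B_smul_left, F.B_smul_left, hs.alt, hs.neg (b' 0) (b 0), h00, mul_zero, zero_add, mul_neg,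
      mul_one, neg_eq_zero] at h3
    rw [h2, h3, zero_smul, zero_smul, add_zero]
  · exact (hmem _).2 ⟨1, 0, by rw [zero_smul, one_smul, add_zero]⟩
  · intro u hu
    obtain ⟨r, s, rfl⟩ := (hmem u).1 hu
    rw [F.B_add_right, hs.smul_right, hs.smul_right, hbb, h10]
    ring

/-- **the sum over the stabiliser of a non-degenerate plane** -/
theorem sum_stab [Finite K] [FiniteDimensional K V] [Finite V] (hs : Symp F) {W₀ E : Submodule K V}
    (hW₀ : W₀ ∈ F.Om 2) (hE : E ∈ ND F) (hg₀ : Good F W₀ E) [Fintype (F.Om 2)] {c : GL (Fin 2) K → ℂ}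
    (hc : IsIrrCharacter _ c) (hcusp : IsCusp c)
    (hscal : ∀ z : Kˣ, c (Matrix.GeneralLinearGroup.scalar (Fin 2) z) = c 1) (h1 : c 1 = (Nat.card K : ℂ) - 1)
    (htor : ∀ A : GL (Fin 2) K, (A : Matrix (Fin 2) (Fin 2) K) 0 1 = 0 → (A : Matrix (Fin 2) (Fin 2) K) 1 0 = 0 →
      (A : Matrix (Fin 2) (Fin 2) K) 0 0 ≠ (A : Matrix (Fin 2) (Fin 2) K) 1 1 → c A = 0)
    [Fintype (stabW F.iso.subtype E)] :
    ∑ g : stabW F.iso.subtype E, F.hc c (fun _ _ => 1) (g : F.iso) = (Nat.card (stabW F.iso.subtype E) : ℂ) := by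
  classical
  have hG : Finite (V ≃ₗ[K] V) := Finite.of_injective (fun e : V ≃ₗ[K] V => (e : V → V)) DFunLike.coe_injective
  let _ : Fintype F.iso := Fintype.ofFinite _
  let _ : ∀ W : Submodule K V, Fintype (stWE F W E) := fun W => Fintype.ofFinite _
  let M := stabW F.iso.subtype E
  -- the local sums
  have hT : ∀ W : F.Om 2, ∑ g : M, flagTerm F.iso.subtype c (g : F.iso) W.1 =
      if Good F W.1 E then (Nat.card (stWE F W.1 E) : ℂ) else 0 := by
    intro W
    have e1 : ∑ g : M, flagTerm F.iso.subtype c (g : F.iso) W.1 =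
        ∑ g : stWE F W.1 E, flagTerm F.iso.subtype c (g : F.iso) W.1 := by
      rw [sum_eq_sum_subgroup ((stWE F W.1 E).subgroupOf M)]
      · have hle : stWE F W.1 E ≤ M := inf_le_right
        refine Fintype.sum_equiv (Subgroup.subgroupOfEquivOfLe hle).toEquiv _ _ fun g => ?_
        rfl
      · intro g hg
        refine flagTerm_not F c fun h => hg ?_
        rw [Subgroup.mem_subgroupOf]
        exact ⟨h, g.2⟩
    rw [e1]
    split_ifs with hgd
    · exact sum_good hs W.2 hE hgd (Core.isIrr_isClassFunction hc) hscal h1 htor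
    · exact sum_bad hs W.2 hE hgd hc hcusp
  have hmap : ∀ (g : M) (W : F.Om 2), Good F W.1 E → Good F (W.1.map (F.iso.subtype g : V →ₗ[K] V)) E := by
    rintro g W ⟨⟨e, he, heE, he0⟩, w, hw, hwE, hw0⟩
    refine ⟨⟨(g.1 : V ≃ₗ[K] V) e, ⟨e, he, rfl⟩, ?_, fun h => he0 ((LinearEquiv.map_eq_zero_iff _).1 h)⟩,
      (g.1 : V ≃ₗ[K] V) w, ⟨w, hw, rfl⟩, fun v hv => ?_, fun h => hw0 ((LinearEquiv.map_eq_zero_iff _).1 h)⟩
    · have h2 : (g.1 : V ≃ₗ[K] V) e ∈ E.map (F.iso.subtype g : V →ₗ[K] V) := ⟨e, heE, rfl⟩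
      have h3 : E.map (F.iso.subtype g : V →ₗ[K] V) = E := g.2
      rwa [h3] at h2
    · have h3 : E.map (F.iso.subtype g : V →ₗ[K] V) = E := g.2
      rw [← h3] at hv
      obtain ⟨v', hv', rfl⟩ := hv
      exact (F.iso_B g.1 w v').trans (hwE v' hv')
  let X := {W : F.Om 2 // Good F W.1 E}
  letI : MulAction M X :=
    { smul := fun g W => ⟨⟨W.1.1.map (F.iso.subtype (g : F.iso) : V →ₗ[K] V), F.Om_map g W.1.1 W.1.2⟩, hmap g W.1 W.2⟩
      one_smul := fun W => by
        apply Subtype.ext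
        apply Subtype.ext
        exact Submodule.map_id _
      mul_smul := fun g h W => by
        apply Subtype.ext
        apply Subtype.ext
        exact map_mul_apply F.iso.subtype (g : F.iso) (h : F.iso) W.1.1 }
  have htr : IsPretransitive M X := by
    refine ⟨fun W W' => ?_⟩
    obtain ⟨g, hg1, hg2⟩ := exists_good_move hs W.1.2 hE W.2 W'.1.2 hE W'.2
    exact ⟨⟨g, hg2⟩, Subtype.ext (Subtype.ext hg1)⟩
  have hst : ∀ W : X, (Nat.card (stWE F W.1.1 E) : ℂ) * (Nat.card X : ℂ) = Nat.card M := by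
    intro W
    have h2 : Nat.card (stabilizer M W) = Nat.card (stWE F W.1.1 E) :=
      Nat.card_congr ⟨fun g => ⟨g.1.1, congrArg (fun W : X => W.1.1) (mem_stabilizer_iff.1 g.2), g.1.2⟩,
        fun g => ⟨⟨g.1, g.2.2⟩, mem_stabilizer_iff.2 (Subtype.ext (Subtype.ext g.2.1))⟩, fun g => rfl, fun g => rfl⟩
    have h3 := (stabilizer M W).card_mul_index
    rw [index_stabilizer_of_transitive, h2] at h3
    rw [← h3, Nat.cast_mul]
  have hne : Nonempty X := ⟨⟨⟨W₀, hW₀⟩, hg₀⟩⟩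
  have hpos : (Nat.card X : ℂ) ≠ 0 := by
    exact_mod_cast Nat.card_pos.ne'
  have e2 : ∑ g : M, F.hc c (fun _ _ => 1) (g : F.iso) = ∑ W : X, (Nat.card (stWE F W.1.1 E) : ℂ) := by
    have e3 : ∀ g : M, F.hc c (fun _ _ => 1) (g : F.iso) = ∑ W : F.Om 2, flagTerm F.iso.subtype c (g : F.iso) W.1 :=
      fun g => hcf_apply F c g
    rw [Finset.sum_congr rfl fun g _ => e3 g, Finset.sum_comm, Finset.sum_congr rfl fun W _ => hT W,
      ← Finset.sum_filter]
    exact Finset.sum_subtype (Finset.univ.filter fun W : F.Om 2 => Good F W.1 E) (fun W => by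
      rw [Finset.mem_filter]
      exact ⟨fun h => h.2, fun h => ⟨Finset.mem_univ _, h⟩⟩) (fun W => (Nat.card (stWE F W.1 E) : ℂ))
  rw [e2]
  apply mul_right_cancel₀ hpos
  rw [Finset.sum_mul, Finset.sum_congr rfl fun W _ => hst W, Finset.sum_const, Finset.card_univ, nsmul_eq_mul,
    ← Nat.card_eq_fintype_card, mul_comm]

/-- **`[Ψ, 1_M] = 1`**, `M` the stabiliser of a non-degenerate plane of a symplectic space (`Ψ = F.hc c 1`) -/
theorem sum_symp {K : Type u} [Field K] [Finite K] {V : Type v} [AddCommGroup V] [Module K V] [FiniteDimensional K V]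
    [Finite V] (F : CForm K V) (hσ : F.σ = RingHom.id K) (_hε : F.ε = -1) (hQ : ∀ v, F.Q v = 0) (_h2 : (2 : K) ≠ 0)
    {W₀ : Submodule K V} (hW₀ : W₀ ∈ F.Om 2) [Fintype (F.Om 2)] {c : GL (Fin 2) K → ℂ} (hc : IsIrrCharacter _ c)
    (hcusp : IsCusp c) (hscal : ∀ z : Kˣ, c (Matrix.GeneralLinearGroup.scalar (Fin 2) z) = c 1)
    (hs : H985.OC.CSelf K c) :
    ∃ M : Subgroup F.iso, (∀ (g : F.iso) (a : K), (∀ v, (g : V ≃ₗ[K] V) v = a • v) → g ∈ M) ∧
      ∀ [Fintype M], ∑ g : M, F.hc c (fun _ _ => 1) (g : F.iso) = (Nat.card M : ℂ) := by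
  have hsy : Symp F := ⟨fun a => by rw [hσ, RingHom.id_apply], hQ⟩
  obtain ⟨E, hE, hg⟩ := exists_good hsy hW₀
  refine ⟨stabW F.iso.subtype E, fun g a ha => map_eq_of_le F.iso.subtype fun w hw => ?_, fun {_} =>
    sum_stab hsy hW₀ hE hg hc hcusp hscal hs.one hs.tor⟩
  change (g : V ≃ₗ[K] V) w ∈ E
  rw [ha]
  exact E.smul_mem _ hw

end Cfsg.Agent.H194.OC
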